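import Groth.Agent.RegExt.Main
import Groth.Agent.S9262
import Mathlib.AlgebraicGeometry.ValuativeCriterion
import Mathlib.AlgebraicGeometry.Morphisms.Separated

/-! Birational invariance of finite etale covers over regular schemes. -/

set_option autoImplicit false
set_option linter.style.haveILetI false
set_option backward.isDefEq.respectTransparency false
set_option backward.isDefEq.respectTransparency.types false
universe u

open CategoryTheory CategoryTheory.Limits AlgebraicGeometry TopologicalSpace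

noncomputable section

namespace Groth.Agent.BirInv

open Pi1Ext.Spread

/-- At a codimension one regular point, a cover coming from a proper scheme through a map defined on
a dense open extends over the local scheme. -/
theorem exists_extension_at {S T Y : Scheme.{u}} (q : T ⟶ S) [IsProper q] (g : Y ⟶ S) [IsLocallyNoetherian Y]
    (V : Y.Opens) (hV : Dense (V : Set Y)) (h : (V : Scheme.{u}) ⟶ T) (hh : h ≫ q = V.ι ≫ g)
    (Z : FEt.Cat T) (y : Y) (hy : y ∉ V) (hr : IsRegularLocalRing (Y.presheaf.stalk y))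
    (hd : ringKrullDim (Y.presheaf.stalk y) = 1) :
    ∃ E : FEt.Cat (Spec (Y.presheaf.stalk y)),
      Nonempty ((FEt.restrict (pullback.snd V.ι (Y.fromSpecStalk y))).obj E ≅
        (FEt.restrict (pullback.fst V.ι (Y.fromSpecStalk y))).obj ((FEt.restrict h).obj Z)) := by
  obtain ⟨hdom, hdvr⟩ := (Groth.Agent.S9262.dvr_iff _).2 ⟨hr, hd⟩
  haveI : IsDomain (Y.presheaf.stalk y) := hdom
  haveI : IsDiscreteValuationRing (Y.presheaf.stalk y) := hdvr
  let A := Y.presheaf.stalk y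
  let K := FractionRing A
  let a : Spec (CommRingCat.of K) ⟶ Spec A := Spec.map (CommRingCat.ofHom (algebraMap A K))
  have hclosed : ∀ p : PrimeSpectrum A, (Y.fromSpecStalk y) p ∈ V → p.asIdeal = ⊥ := by
    intro p hp
    by_contra hne
    have : p = IsLocalRing.closedPoint A :=
      PrimeSpectrum.ext (IsLocalRing.eq_maximalIdeal (p.isPrime.isMaximal hne))
    rw [this, Scheme.fromSpecStalk_closedPoint] at hp
    exact hy hp
  have hbot : ∀ p : Spec (CommRingCat.of K), (a p).asIdeal = (⊥ : Ideal A) := fun p => by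
    show Ideal.comap (algebraMap A K) (p : PrimeSpectrum K).asIdeal = ⊥
    rw [(Ideal.eq_bot_or_top (p : PrimeSpectrum K).asIdeal).resolve_right (p : PrimeSpectrum K).isPrime.ne_top]
    exact Ideal.comap_bot_of_injective _ (IsFractionRing.injective A K)
  have hmemV : ∀ p : Spec (CommRingCat.of K), (a ≫ Y.fromSpecStalk y) p ∈ V := fun p => by
    refine RegExt.mem_of_maximal V hV _ fun z hz => ?_
    obtain ⟨r, rfl⟩ : z ∈ Set.range (Y.fromSpecStalk y) := by
      rw [Scheme.range_fromSpecStalk]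
      exact hz.trans ((Scheme.range_fromSpecStalk (X := Y)).subset ⟨a p, rfl⟩)
    have hle : r ⤳ a p := (Y.fromSpecStalk y).isEmbedding.isInducing.specializes_iff.1 hz
    have : (r : PrimeSpectrum A).asIdeal ≤ (a p : PrimeSpectrum A).asIdeal :=
      (PrimeSpectrum.le_iff_specializes (R := A) r (a p)).2 hle
    rw [hbot p, le_bot_iff] at this
    exact congrArg (Y.fromSpecStalk y) (PrimeSpectrum.ext (this.trans (hbot p).symm))
  let v : Spec (CommRingCat.of K) ⟶ (V : Scheme.{u}) := IsOpenImmersion.lift V.ι (a ≫ Y.fromSpecStalk y) (by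
    rw [Scheme.Opens.range_ι]; rintro _ ⟨p, rfl⟩; exact hmemV p)
  have hv : v ≫ V.ι = a ≫ Y.fromSpecStalk y := IsOpenImmersion.lift_fac _ _ _
  let sq : ValuativeCommSq q :=
    { R := A
      K := K
      i₁ := v ≫ h
      i₂ := Y.fromSpecStalk y ≫ g
      commSq := ⟨by rw [Category.assoc, hh, ← Category.assoc, hv, Category.assoc]⟩ }
  have hvc : ValuativeCriterion q := by
    have := ‹IsProper q›
    rw [IsProper.eq_valuativeCriterion] at this
    exact this.1.1.1
  haveI := hvc.existence sq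
  let s : Spec A ⟶ T := sq.commSq.lift
  have hs₁ : a ≫ s = v ≫ h := sq.commSq.fac_left
  have hs₂ : s ≫ q = Y.fromSpecStalk y ≫ g := sq.commSq.fac_right
  let p₁ := pullback.fst V.ι (Y.fromSpecStalk y)
  let p₂ := pullback.snd V.ι (Y.fromSpecStalk y)
  let t : Spec (CommRingCat.of K) ⟶ pullback V.ι (Y.fromSpecStalk y) := pullback.lift v a hv
  haveI : IsReduced (pullback V.ι (Y.fromSpecStalk y)) := isReduced_of_isOpenImmersion p₂
  haveI : Surjective t := ⟨fun w => by
    have hw : (p₂ w).asIdeal = (⊥ : Ideal A) := hclosed (p₂ w) (by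
      rw [show Y.fromSpecStalk y (p₂ w) = V.ι (p₁ w) from
        (congr($(pullback.condition (f := V.ι) (g := Y.fromSpecStalk y)) w)).symm]
      exact (p₁ w).2)
    let ξ : Spec (CommRingCat.of K) := (⊥ : PrimeSpectrum K)
    refine ⟨ξ, p₂.isOpenEmbedding.injective ?_⟩
    rw [← Scheme.Hom.comp_apply, pullback.lift_snd]
    exact PrimeSpectrum.ext ((hbot ξ).trans hw.symm)⟩
  have key : p₁ ≫ h = p₂ ≫ s := by
    refine ext_of_isDominant_of_isSeparated q ?_ t ?_
    · rw [Category.assoc, Category.assoc, hh, hs₂, pullback.condition_assoc]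
    · rw [← Category.assoc, ← Category.assoc, pullback.lift_fst, pullback.lift_snd, hs₁]
  exact ⟨(FEt.restrict s).obj Z, ⟨restrictSquare p₂ s p₁ h key.symm Z⟩⟩

/-- Restriction to a dense open of a scheme regular outside it is fully faithful. -/
theorem restrict_ι_fullyFaithful {X : Scheme.{u}} [IsLocallyNoetherian X] (U : X.Opens) (hU : Dense (U : Set X))
    (hreg : ∀ x : X, x ∉ U → IsRegularLocalRing (X.presheaf.stalk x)) :
    (FEt.restrict U.ι).Full ∧ (FEt.restrict U.ι).Faithful := by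
  haveI : IsIso (⊤ : X.Opens).ι := by rw [← Scheme.topIso_hom]; infer_instance
  obtain ⟨h1, h2⟩ := RegExt.fullyFaithful U hU hreg ⊤
  let κ : (U : Scheme.{u}) ≅ (↑((⊤ : X.Opens) ⊓ U) : Scheme.{u}) := X.isoOfEq (top_inf_eq U).symm
  obtain ⟨a1, a2⟩ := Pi1X.restrict_fullyFaithful_of_homeo κ.hom
  obtain ⟨b1, b2⟩ := Pi1X.restrict_fullyFaithful_of_homeo (⊤ : X.Opens).ι
  have w : U.ι = κ.hom ≫ X.homOfLE (inf_le_left : (⊤ : X.Opens) ⊓ U ≤ ⊤) ≫ (⊤ : X.Opens).ι := by
    rw [X.homOfLE_ι]; exact (Scheme.isoOfEq_hom_ι _ _).symm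
  let iso : FEt.restrict U.ι ≅
      FEt.restrict (⊤ : X.Opens).ι ⋙ FEt.restrict (X.homOfLE (inf_le_left : (⊤ : X.Opens) ⊓ U ≤ ⊤)) ⋙
        FEt.restrict κ.hom :=
    MorphismProperty.Over.pullbackComp κ.hom (X.homOfLE inf_le_left ≫ (⊤ : X.Opens).ι) _ w ≪≫
      Functor.isoWhiskerRight (MorphismProperty.Over.pullbackComp _ _ _ rfl) _ ≪≫ Functor.associator _ _ _
  exact ⟨Functor.Full.of_iso iso.symm, Functor.Faithful.of_iso iso.symm⟩

/-- Two fully faithful functors with the same essential image differ by an equivalence. -/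
theorem exists_equivalence {C D E : Type*} [Category C] [Category D] [Category E] (A : C ⥤ E) (B : D ⥤ E)
    [A.Full] [A.Faithful] [B.Full] [B.Faithful]
    (hAB : ∀ c, ∃ d, Nonempty (B.obj d ≅ A.obj c)) (hBA : ∀ d, ∃ c, Nonempty (A.obj c ≅ B.obj d)) :
    ∃ Φ : C ≌ D, Nonempty (A ≅ Φ.functor ⋙ B) := by
  choose o ho using hAB
  let e := fun c => (ho c).some
  let G : C ⥤ D :=
    { obj := o
      map := fun {c c'} φ => B.preimage ((e c).hom ≫ A.map φ ≫ (e c').inv)
      map_id := fun c => B.map_injective (by simp)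
      map_comp := fun φ ψ => B.map_injective (by simp) }
  let η : G ⋙ B ≅ A := NatIso.ofComponents e (fun φ => by simp [G])
  haveI : (G ⋙ B).Full := Functor.Full.of_iso η.symm
  haveI : (G ⋙ B).Faithful := Functor.Faithful.of_iso η.symm
  haveI : G.Faithful := Functor.Faithful.of_comp G B
  haveI : G.Full := Functor.Full.of_comp_faithful G B
  haveI : G.EssSurj := ⟨fun d => by
    obtain ⟨c, ⟨i⟩⟩ := hBA d
    exact ⟨c, ⟨B.preimageIso (e c ≪≫ i)⟩⟩⟩
  haveI : G.IsEquivalence := {}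
  exact ⟨G.asEquivalence, ⟨η.symm⟩⟩

/-- A cover pushed along a birational map from a scheme proper over the base extends. -/
theorem exists_transfer {S T Y : Scheme.{u}} (q : T ⟶ S) [IsProper q] (g : Y ⟶ S) [IsLocallyNoetherian Y]
    (V : Y.Opens) (hV : Dense (V : Set Y)) (h : (V : Scheme.{u}) ⟶ T) (hh : h ≫ q = V.ι ≫ g)
    (hY : ∀ y : Y, IsRegularLocalRing (Y.presheaf.stalk y)) (Z : FEt.Cat T) :
    ∃ Z' : FEt.Cat Y, Nonempty ((FEt.restrict V.ι).obj Z' ≅ (FEt.restrict h).obj Z) :=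
  RegExt.exists_extension V hV _ (fun y _ => hY y) fun ξ hξ hd =>
    exists_extension_at q g V hV h hh Z ξ hξ (hY ξ) hd

/-- Birational proper regular schemes have equivalent categories of covers. -/
theorem exists_equiv {S X Y : Scheme.{u}} (f : X ⟶ S) (g : Y ⟶ S) [IsProper f] [IsProper g]
    [IsLocallyNoetherian X] [IsLocallyNoetherian Y]
    (hX : ∀ x : X, IsRegularLocalRing (X.presheaf.stalk x)) (hY : ∀ y : Y, IsRegularLocalRing (Y.presheaf.stalk y))
    (U : X.Opens) (V : Y.Opens) (hU : Dense (U : Set X)) (hV : Dense (V : Set Y))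
    (e : (U : Scheme.{u}) ≅ (V : Scheme.{u})) (he : e.hom ≫ V.ι ≫ g = U.ι ≫ f) :
    ∃ Φ : FEt.Cat X ≌ FEt.Cat Y, Nonempty (FEt.restrict U.ι ≅ Φ.functor ⋙ FEt.restrict V.ι ⋙ FEt.restrict e.hom) := by
  obtain ⟨a1, a2⟩ := restrict_ι_fullyFaithful U hU fun x _ => hX x
  obtain ⟨b1, b2⟩ := restrict_ι_fullyFaithful V hV fun y _ => hY y
  obtain ⟨c1, c2⟩ := Pi1X.restrict_fullyFaithful_of_homeo e.hom
  refine exists_equivalence _ (FEt.restrict V.ι ⋙ FEt.restrict e.hom) (fun Z => ?_) fun W => ?_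
  · obtain ⟨Z', ⟨i⟩⟩ := exists_transfer f g V hV (e.inv ≫ U.ι)
      (by rw [Category.assoc, ← he, e.inv_hom_id_assoc]) hY Z
    exact ⟨Z', ⟨(FEt.restrict e.hom).mapIso i ≪≫
      (restrictComp e.hom (e.inv ≫ U.ι) U.ι (e.hom_inv_id_assoc _).symm Z).symm⟩⟩
  · obtain ⟨Z, ⟨i⟩⟩ := exists_transfer g f U hU (e.hom ≫ V.ι) (by rw [Category.assoc, he]) hX W
    exact ⟨Z, ⟨i ≪≫ restrictComp e.hom V.ι _ rfl W⟩⟩

/-- Pullback along a proper birational morphism onto a regular scheme is an equivalence. -/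
theorem isEquivalence_of_birational {X Y : Scheme.{u}} (f : X ⟶ Y) [IsProper f] [IsLocallyNoetherian Y]
    (hY : ∀ y : Y, IsRegularLocalRing (Y.presheaf.stalk y)) (V : Y.Opens) (hV : Dense (V : Set Y))
    [IsIso (f ∣_ V)] [(FEt.restrict (f ⁻¹ᵁ V).ι).Full] [(FEt.restrict (f ⁻¹ᵁ V).ι).Faithful] :
    (FEt.restrict f).IsEquivalence := by
  obtain ⟨b1, b2⟩ := restrict_ι_fullyFaithful V hV fun y _ => hY y
  obtain ⟨c1, c2⟩ := Pi1X.restrict_fullyFaithful_of_homeo (f ∣_ V)
  let h : (V : Scheme.{u}) ⟶ X := inv (f ∣_ V) ≫ (f ⁻¹ᵁ V).ι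
  have hh : h ≫ f = V.ι ≫ 𝟙 Y := by
    rw [Category.assoc, ← morphismRestrict_ι, IsIso.inv_hom_id_assoc, Category.comp_id]
  let η : FEt.restrict f ⋙ FEt.restrict (f ⁻¹ᵁ V).ι ≅ FEt.restrict V.ι ⋙ FEt.restrict (f ∣_ V) :=
    (MorphismProperty.Over.pullbackComp (f ⁻¹ᵁ V).ι f _ rfl).symm ≪≫
      MorphismProperty.Over.pullbackComp (f ∣_ V) V.ι _ (morphismRestrict_ι f V).symm
  haveI : (FEt.restrict f ⋙ FEt.restrict (f ⁻¹ᵁ V).ι).Full := Functor.Full.of_iso η.symm
  haveI : (FEt.restrict f ⋙ FEt.restrict (f ⁻¹ᵁ V).ι).Faithful := Functor.Faithful.of_iso η.symm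
  haveI : (FEt.restrict f).Faithful := Functor.Faithful.of_comp (FEt.restrict f) (FEt.restrict (f ⁻¹ᵁ V).ι)
  haveI : (FEt.restrict f).Full := Functor.Full.of_comp_faithful (FEt.restrict f) (FEt.restrict (f ⁻¹ᵁ V).ι)
  haveI : (FEt.restrict f).EssSurj := ⟨fun Z => by
    obtain ⟨Z', ⟨i⟩⟩ := exists_transfer f (𝟙 Y) V hV h hh hY Z
    refine ⟨Z', ⟨(FEt.restrict (f ⁻¹ᵁ V).ι).preimageIso (η.app Z' ≪≫ (FEt.restrict (f ∣_ V)).mapIso i ≪≫
      (restrictComp (f ∣_ V) h (f ⁻¹ᵁ V).ι (by simp [h]) Z).symm)⟩⟩⟩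
  exact {}

end Groth.Agent.BirInv
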